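import Cfsg.Agent.Lib.ElementOrders.Frobenius
import Cfsg.Agent.Lib.SchurExt.Frobenius
import Mathlib.GroupTheory.Sylow

/-!
Counting in a finite group with known centraliser orders.
-/

set_option autoImplicit false
set_option linter.unusedSectionVars false
set_option linter.style.haveILetI false

open Finset

namespace CfsgLib.ClassSizesPSL

variable {H : Type*} [Group H]

section Fin
variable [Fintype H] [DecidableEq H]

theorem pow_card_centralizer (y : H) :
    y ^ Nat.card (Subgroup.centralizer ({y} : Set H)) = 1 := by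
  have := pow_card_eq_one' (G := Subgroup.centralizer ({y} : Set H))
    (x := ⟨y, Subgroup.mem_centralizer_singleton_iff.2 rfl⟩)
  exact congrArg Subtype.val this

theorem index_conj (g y : H) :
    (Subgroup.centralizer ({g * y * g⁻¹} : Set H)).index = (Subgroup.centralizer ({y} : Set H)).index := by
  obtain ⟨e⟩ := ElementOrders.card_centralizer_conj g y
  have h1 := (Subgroup.centralizer ({g * y * g⁻¹} : Set H)).card_mul_index
  have h2 := (Subgroup.centralizer ({y} : Set H)).card_mul_index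
  rw [← Nat.card_congr e.toEquiv] at h1
  exact Nat.eq_of_mul_eq_mul_left Nat.card_pos (h1.trans h2.symm)

theorem card_class (y : H) :
    #(univ.filter fun z => IsConj y z) = (Subgroup.centralizer ({y} : Set H)).index := by
  have h1 : (ConjClasses.mk y).carrier = ↑(univ.filter fun z => IsConj y z) := by
    ext z
    simp only [ConjClasses.mem_carrier_iff_mk_eq, ConjClasses.mk_eq_mk_iff_isConj, Finset.coe_filter,
      Finset.mem_univ, true_and, Set.mem_setOf_eq]
    exact ⟨fun h => h.symm, fun h => h.symm⟩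
  have h2 := ElementOrders.ncard_conj_class_mul_card_centralizer y
  rw [h1, Set.ncard_coe_finset] at h2
  have h3 := (Subgroup.centralizer ({y} : Set H)).card_mul_index
  rw [mul_comm] at h2
  exact Nat.eq_of_mul_eq_mul_left Nat.card_pos (h2.trans h3.symm)

/-- A normal set all of whose class sizes are multiples of `d` has cardinality a multiple of `d`. -/
theorem dvd_card_of_forall {d : ℕ} (X : Finset H) (hX : ∀ y ∈ X, ∀ g : H, g * y * g⁻¹ ∈ X)
    (h : ∀ y ∈ X, d ∣ (Subgroup.centralizer ({y} : Set H)).index) : d ∣ #X := by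
  induction X using Finset.strongInduction with
  | _ X ih =>
    rcases X.eq_empty_or_nonempty with rfl | ⟨y, hy⟩
    · simp
    set Cy := univ.filter fun z => IsConj y z with hCy
    have hsub : Cy ⊆ X := by
      intro z hz
      obtain ⟨g, rfl⟩ := isConj_iff.1 (Finset.mem_filter.1 hz).2
      exact hX y hy g
    have h1 : d ∣ #(X \ Cy) := by
      refine ih _ (Finset.sdiff_ssubset hsub ⟨y, Finset.mem_filter.2 ⟨Finset.mem_univ _, IsConj.refl y⟩⟩)
        (fun z hz g => ?_) (fun z hz => h z (Finset.mem_sdiff.1 hz).1)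
      obtain ⟨hz1, hz2⟩ := Finset.mem_sdiff.1 hz
      refine Finset.mem_sdiff.2 ⟨hX z hz1 g, fun hc => hz2 ?_⟩
      simp only [hCy, Finset.mem_filter, Finset.mem_univ, true_and] at hc ⊢
      exact hc.trans (isConj_iff.2 ⟨g, rfl⟩ : IsConj z (g * z * g⁻¹)).symm
    have h2 : #(X \ Cy) + #Cy = #X := Finset.card_sdiff_add_card_eq_card hsub
    rw [← h2]
    exact Nat.dvd_add h1 (by rw [hCy, card_class]; exact h y hy)

/-- Frobenius: `n` divides the number of solutions of `y ^ n = 1`. -/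
theorem dvd_succ_card_pow {n : ℕ} (hn : n ∣ Nat.card H) :
    n ∣ 1 + #(univ.filter fun y : H => y ≠ 1 ∧ y ^ n = 1) := by
  have h := SchurExt.dvd_card_pow_eq_one_of_dvd (G := H) hn
  rw [Nat.card_eq_fintype_card, Fintype.card_subtype] at h
  have e : univ.filter (fun y : H => y ^ n = 1) =
      insert 1 (univ.filter fun y : H => y ≠ 1 ∧ y ^ n = 1) := by
    ext y
    simp only [Finset.mem_filter, Finset.mem_univ, true_and, Finset.mem_insert]
    constructor
    · intro hy
      by_cases h1 : y = 1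
      · exact Or.inl h1
      · exact Or.inr ⟨h1, hy⟩
    · rintro (rfl | ⟨-, hy⟩)
      · exact one_pow n
      · exact hy
  rw [e, Finset.card_insert_of_notMem (by simp), add_comm] at h
  exact h

/-- The involutions `a` such that `a * y` is an involution. -/
def pairsAt (J : Finset H) (y : H) : Finset H := J.filter fun a => a * y ∈ J

theorem sum_pairsAt (J : Finset H) : ∑ y : H, #(pairsAt J y) = #J * #J := by
  simp only [pairsAt, Finset.card_filter]
  rw [Finset.sum_comm]
  rw [show #J * #J = ∑ _a ∈ J, #J by rw [Finset.sum_const, smul_eq_mul]]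
  refine Finset.sum_congr rfl fun a _ => ?_
  rw [← Finset.card_filter]
  refine Finset.card_bij (fun y _ => a * y) (fun y hy => (Finset.mem_filter.1 hy).2)
    (fun y _ z _ h => mul_left_cancel h) (fun b hb => ⟨a⁻¹ * b, ?_, mul_inv_cancel_left a b⟩)
  simp [hb]

theorem mem_invol {a : H} :
    a ∈ (univ.filter fun a : H => a ≠ 1 ∧ a * a = 1) ↔ a ≠ 1 ∧ a * a = 1 := by simp

theorem inverts_of_mem_pairsAt {y a : H}
    (ha : a ∈ pairsAt (univ.filter fun a : H => a ≠ 1 ∧ a * a = 1) y) :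
    a ≠ 1 ∧ a * a = 1 ∧ a * y * a⁻¹ = y⁻¹ := by
  obtain ⟨ha, hay⟩ := Finset.mem_filter.1 ha
  obtain ⟨ha1, haa⟩ := mem_invol.1 ha
  refine ⟨ha1, haa, eq_inv_of_mul_eq_one_left ?_⟩
  rw [inv_eq_of_mul_eq_one_right haa]
  rw [mul_assoc (a * y)]
  exact (mem_invol.1 hay).2

theorem conj_mem_centralizer_of_inverts {y a c : H} (h : a * y * a⁻¹ = y⁻¹)
    (hc : c ∈ Subgroup.centralizer ({y} : Set H)) : a * c * a⁻¹ ∈ Subgroup.centralizer ({y} : Set H) := by
  rw [Subgroup.mem_centralizer_singleton_iff] at hc ⊢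
  have h1 : (a * c * a⁻¹) * (a * y * a⁻¹) = (a * y * a⁻¹) * (a * c * a⁻¹) := by
    calc (a * c * a⁻¹) * (a * y * a⁻¹) = a * (c * y) * a⁻¹ := by group
      _ = _ := by rw [hc]; group
  rw [h] at h1
  exact (Commute.inv_right_iff.1 (h1 : Commute (a * c * a⁻¹) y⁻¹)).eq

theorem card_pairsAt_le (y : H) :
    #(pairsAt (univ.filter fun a : H => a ≠ 1 ∧ a * a = 1) y) ≤
      Nat.card (Subgroup.centralizer ({y} : Set H)) := by
  rcases (pairsAt (univ.filter fun a : H => a ≠ 1 ∧ a * a = 1) y).eq_empty_or_nonempty with h | ⟨a₀, h₀⟩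
  · rw [h]; simp
  rw [← Fintype.card_coe, ← Nat.card_eq_fintype_card]
  refine Nat.card_le_card_of_injective (fun a => ⟨a₀⁻¹ * a.1, ?_⟩)
    (fun a b h => Subtype.ext (mul_left_cancel (congrArg Subtype.val h)))
  obtain ⟨-, -, h1⟩ := inverts_of_mem_pairsAt a.2
  obtain ⟨-, -, h2⟩ := inverts_of_mem_pairsAt h₀
  rw [Subgroup.mem_centralizer_singleton_iff, ← mul_inv_eq_iff_eq_mul]
  calc a₀⁻¹ * a.1 * y * (a₀⁻¹ * a.1)⁻¹ = a₀⁻¹ * (a.1 * y * a.1⁻¹) * a₀ := by group
    _ = a₀⁻¹ * (a₀ * y * a₀⁻¹) * a₀ := by rw [h1, h2]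
    _ = y := by group

end Fin

/-- A group normalised by an involution which centralises none of its non-identity elements is
inverted by it, hence abelian. -/
theorem inverts_of_fixedPointFree [Finite H] {P : Subgroup H} {a : H} (haa : a * a = 1)
    (hn : ∀ c ∈ P, a * c * a⁻¹ ∈ P) (hfree : ∀ c ∈ P, a * c * a⁻¹ = c → c = 1) :
    ∀ c ∈ P, a * c * a⁻¹ = c⁻¹ := by
  let f : P → P := fun c => ⟨(c : H)⁻¹ * (a * c * a⁻¹), P.mul_mem (P.inv_mem c.2) (hn c c.2)⟩
  have hinj : Function.Injective f := by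
    intro c d hcd
    have h : (c : H)⁻¹ * (a * c * a⁻¹) = (d : H)⁻¹ * (a * d * a⁻¹) := congrArg Subtype.val hcd
    have h' : a * ((d : H) * (c : H)⁻¹) * a⁻¹ = (d : H) * (c : H)⁻¹ := by
      calc a * ((d : H) * (c : H)⁻¹) * a⁻¹
          = (d : H) * ((d : H)⁻¹ * (a * d * a⁻¹)) * (a * c * a⁻¹)⁻¹ := by group
        _ = _ := by rw [← h]; group
    exact Subtype.ext (mul_inv_eq_one.1 (hfree _ (P.mul_mem d.2 (P.inv_mem c.2)) h')).symm
  intro e he
  obtain ⟨c, hc⟩ := (Finite.injective_iff_surjective.1 hinj) ⟨e, he⟩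
  have hc' : (c : H)⁻¹ * (a * c * a⁻¹) = e := congrArg Subtype.val hc
  rw [← hc']
  calc a * ((c : H)⁻¹ * (a * c * a⁻¹)) * a⁻¹
      = a * (c : H)⁻¹ * a⁻¹ * (a * a) * c * (a * a)⁻¹ := by group
    _ = ((c : H)⁻¹ * (a * c * a⁻¹))⁻¹ := by rw [haa]; group

theorem comm_of_inverts {P : Subgroup H} {a : H} (h : ∀ c ∈ P, a * c * a⁻¹ = c⁻¹) :
    ∀ c ∈ P, ∀ d ∈ P, c * d = d * c := by
  intro c hc d hd
  have h1 := h _ (P.mul_mem hc hd)
  rw [mul_inv_rev, ← h c hc, ← h d hd] at h1
  have h2 : a * (c * d) * a⁻¹ = a * (d * c) * a⁻¹ := by rw [h1]; group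
  exact mul_left_cancel (mul_right_cancel h2)

/-- Centralisers of order a full prime power part are conjugate Sylow subgroups. -/
theorem centralizer_conj_of_card_eq [Finite H] {p f q u : ℕ} (hp : p.Prime) (hqf : q = p ^ f)
    (hG : Nat.card H = q * u) (hu : ¬ p ∣ u) {x y : H}
    (hx : Nat.card (Subgroup.centralizer ({x} : Set H)) = q)
    (hy : Nat.card (Subgroup.centralizer ({y} : Set H)) = q) :
    ∃ g : H, ∀ z : H, z ∈ Subgroup.centralizer ({y} : Set H) ↔
      g⁻¹ * z * g ∈ Subgroup.centralizer ({x} : Set H) := by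
  haveI : Fact p.Prime := ⟨hp⟩
  have mk : ∀ w : H, Nat.card (Subgroup.centralizer ({w} : Set H)) = q →
      ∃ S : Sylow p H, (S : Subgroup H) = Subgroup.centralizer ({w} : Set H) := by
    intro w hw
    obtain ⟨S, hS⟩ := (IsPGroup.of_card (hw.trans hqf)).exists_le_sylow
    refine ⟨S, (Subgroup.eq_of_le_of_card_ge hS ?_).symm⟩
    obtain ⟨k, hk⟩ := IsPGroup.iff_card.1 S.isPGroup'
    have hd := (S : Subgroup H).card_subgroup_dvd_card
    rw [hk, hG] at hd
    rw [hk, hw]
    exact Nat.le_of_dvd (hqf ▸ pow_pos hp.pos f)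
      ((Nat.Coprime.pow_left k ((hp.coprime_iff_not_dvd).2 hu)).dvd_of_dvd_mul_right hd)
  obtain ⟨S, hS⟩ := mk x hx
  obtain ⟨T, hT⟩ := mk y hy
  obtain ⟨g, rfl⟩ := MulAction.exists_smul_eq H S T
  refine ⟨g, fun z => ?_⟩
  rw [← hT, ← hS, Sylow.coe_subgroup_smul, Subgroup.mem_pointwise_smul_iff_inv_smul_mem,
    ← map_inv, MulAut.smul_def, MulAut.conj_apply, inv_inv]

end CfsgLib.ClassSizesPSL
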