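import Cfsg.Agent.Lib.CharDegrees.PSLTwoClasses
import Cfsg.Agent.Lib.SL2.Torus
import Cfsg.Agent.Lib.ClassicalLinear.Simple

/-!
Class sizes of `PSL₂(q)` in the parameters used for their recognition: for odd `q` write
`q = ℓ + m` with `ℓ` even and `|ℓ - m| = 1`.
-/

set_option autoImplicit false
set_option linter.unusedSectionVars false
set_option linter.style.haveILetI false

open Matrix
open scoped MatrixGroups

namespace CfsgLib.ClassSizesPSL

open CfsgLib.SL2 CfsgLib.CharDegrees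
open CfsgLib.ClassicalLinear (upS)

variable {F : Type*} [Field F] [Fintype F]

local notation "PS" => Matrix.ProjectiveSpecialLinearGroup (Fin 2) F

theorem two_ne_zero_of_odd (hodd : ¬ 2 ∣ Fintype.card F) : (2 : F) ≠ 0 := fun h =>
  hodd (char_two_facts h).2.2

theorem exists_params (hodd : ¬ 2 ∣ Fintype.card F) (h7 : 7 ≤ Fintype.card F) :
    ∃ ℓ m : ℕ, Fintype.card F = ℓ + m ∧ (ℓ = m + 1 ∨ m = ℓ + 1) ∧ Even ℓ ∧ 4 ≤ ℓ ∧ 3 ≤ m := by
  obtain ⟨c, hc⟩ : ∃ c, Fintype.card F = 4 * c + 1 ∨ Fintype.card F = 4 * c + 3 :=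
    ⟨Fintype.card F / 4, by omega⟩
  rcases hc with hc | hc
  · refine ⟨2 * c, 2 * c + 1, by omega, by omega, ⟨c, by ring⟩, by omega, by omega⟩
  · refine ⟨2 * c + 2, 2 * c + 1, by omega, by omega, ⟨c + 1, by ring⟩, by omega, by omega⟩

theorem card_psl_even (heven : 2 ∣ Fintype.card F) :
    Nat.card PS = Fintype.card F * (Fintype.card F - 1) * (Fintype.card F + 1) := by
  have h1 := Fintype.one_lt_card (α := F)
  have hco : Nat.gcd 2 (Fintype.card F - 1) = 1 :=
    (Nat.prime_two.coprime_iff_not_dvd).2 (by omega)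
  rw [SL2.card_PSL, Nat.card_eq_fintype_card, hco, Nat.div_one, sq_sub_one_eq]

/-- An element of trace zero squares to minus one. -/
theorem mul_self_of_tr_zero {g : SL(2, F)} (h : tr g = 0) : g * g = -1 := by
  apply Subtype.ext
  rw [Matrix.SpecialLinearGroup.coe_mul, SL2.mul_self_eq, h, zero_smul, zero_sub]
  rfl

theorem tr_sq_ne_of_tr_zero (h2 : (2 : F) ≠ 0) {g : SL(2, F)} (h : tr g = 0) : tr g ^ 2 ≠ 4 := by
  rw [h, zero_pow two_ne_zero]
  exact fun h' => mul_self_ne_zero.2 h2 (by linear_combination -h')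

/-- The centraliser in `PSL₂` of an element that is not an involution is abelian. -/
theorem centralizer_comm {x : PS} (hx1 : x ≠ 1) (hx : x ^ 2 ≠ 1 ∨ 2 ∣ Fintype.card F) :
    ∀ a ∈ Subgroup.centralizer ({x} : Set PS), ∀ b ∈ Subgroup.centralizer ({x} : Set PS),
      a * b = b * a := by
  obtain ⟨g, rfl⟩ := QuotientGroup.mk'_surjective _ x
  have hgc : g ∉ Subgroup.center (SL(2, F)) := fun h =>
    hx1 ((proj₂_eq_one_iff g).2 ((mem_center_iff g).1 h))
  have hor : tr g ≠ 0 ∧ (2 : F) ≠ 0 ∨ (2 : F) = 0 := by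
    by_cases h2 : (2 : F) = 0
    · exact Or.inr h2
    refine Or.inl ⟨fun h => ?_, h2⟩
    rcases hx with hx | hx
    · refine hx ?_
      rw [pow_two, ← map_mul, mul_self_of_tr_zero h]
      exact (proj₂_eq_one_iff _).2 (Or.inr rfl)
    · exact (odd_facts h2).2.2 hx
  intro a ha b hb
  obtain ⟨a, rfl⟩ := QuotientGroup.mk'_surjective _ a
  obtain ⟨b, rfl⟩ := QuotientGroup.mk'_surjective _ b
  have key : ∀ k : SL(2, F), proj₂ k ∈ Subgroup.centralizer ({proj₂ g} : Set PS) →
      k ∈ Subgroup.centralizer ({g} : Set (SL(2, F))) := fun k hk => by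
    rw [← conj_eq_or_neg_iff hor, ← proj₂_eq_iff, proj₂_conj_eq, mul_inv_eq_iff_eq_mul]
    exact Subgroup.mem_centralizer_singleton_iff.1 hk
  rw [← map_mul, ← map_mul, centralizer_mulComm hgc (key a ha) (key b hb)]

section Odd

variable {ℓ m : ℕ} (hq : Fintype.card F = ℓ + m) (hlm : ℓ = m + 1 ∨ m = ℓ + 1) (hl : Even ℓ)
  (hl4 : 4 ≤ ℓ) (hm3 : 3 ≤ m)

include hq hlm hl in
theorem not_two_dvd : ¬ 2 ∣ Fintype.card F := by
  obtain ⟨c, hc⟩ := hl
  omega

include hq hlm hl in
theorem pm_cases :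
    Fintype.card F - 1 = 2 * ℓ ∧ Fintype.card F + 1 = 2 * m ∨
      Fintype.card F - 1 = 2 * m ∧ Fintype.card F + 1 = 2 * ℓ := by
  obtain ⟨c, hc⟩ := hl
  omega

include hq hlm hl in
theorem card_psl_odd : Nat.card PS = 2 * (Fintype.card F * ℓ * m) := by
  obtain ⟨hc, hgcd, -⟩ := odd_facts (two_ne_zero_of_odd (not_two_dvd hq hlm hl))
  rw [SL2.card_PSL, Nat.card_eq_fintype_card, hgcd, sq_sub_one_eq]
  refine Nat.div_eq_of_eq_mul_left two_pos ?_
  rcases pm_cases hq hlm hl with ⟨h1, h2⟩ | ⟨h1, h2⟩ <;> rw [h1, h2] <;> ring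

include hq hlm hl hl4 hm3 in
/-- The centraliser in `SL₂` of an element of trace zero has order `2ℓ`. -/
theorem card_centralizer_tr_zero {g : SL(2, F)} (h : tr g = 0) :
    Nat.card (Subgroup.centralizer ({g} : Set (SL(2, F)))) = 2 * ℓ := by
  have h2 := two_ne_zero_of_odd (not_two_dvd hq hlm hl)
  have ho : orderOf g = 4 := by
    refine orderOf_eq_prime_pow (p := 2) (n := 1) ?_ ?_
    · rw [pow_one, pow_two, mul_self_of_tr_zero h]
      intro h'
      have := congrArg tr h'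
      simp [tr] at this
      exact mul_self_ne_zero.2 h2 (by linear_combination -this)
    · rw [show (2 : ℕ) ^ (1 + 1) = 2 * 2 from rfl, pow_mul, pow_two g, mul_self_of_tr_zero h]
      simp
  have h4 : 4 ∣ Nat.card (Subgroup.centralizer ({g} : Set (SL(2, F)))) := by
    rw [← ho]
    exact Subgroup.orderOf_dvd_natCard _ (Subgroup.mem_centralizer_singleton_iff.2 rfl)
  obtain ⟨c, hc⟩ := hl
  rcases card_centralizer_or (tr_sq_ne_of_tr_zero h2 h) with e | e <;>
    rw [Nat.card_eq_fintype_card (α := F)] at e <;> rw [e] at h4 ⊢ <;> omega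

include hq hlm hl hl4 hm3 in
/-- The class sizes. -/
theorem index_cases (g : SL(2, F)) :
    let i := (Subgroup.centralizer ({proj₂ g} : Set PS)).index
    i = 1 ∨ (i = 2 * ℓ * m ∧ tr g ≠ 0) ∨ (i = 2 * Fintype.card F * ℓ ∧ tr g ≠ 0) ∨
      (i = 2 * Fintype.card F * m ∧ tr g ≠ 0) ∨ (i = Fintype.card F * m ∧ tr g = 0) := by
  intro i
  have hodd := not_two_dvd hq hlm hl
  have h2 := two_ne_zero_of_odd hodd
  have hpos : 0 < Fintype.card F := by omega
  rcases class_size_cases g with ⟨h, -⟩ | ⟨h, ht, -⟩ | ⟨-, h0, h⟩ | ⟨h0, -, h⟩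
  · exact Or.inl h
  · refine Or.inr (Or.inl ⟨?_, fun h0 => tr_sq_ne_of_tr_zero h2 h0 ht⟩)
    rw [(odd_facts h2).1] at h
    apply Nat.eq_of_mul_eq_mul_right (show 0 < 2 * Fintype.card F by omega)
    refine h.trans ?_
    rcases pm_cases hq hlm hl with ⟨h1, h1'⟩ | ⟨h1, h1'⟩ <;> rw [h1, h1'] <;> ring
  · have h0' : tr g ≠ 0 := (h0.resolve_right fun e => h2 e).1
    rcases pm_cases hq hlm hl with ⟨h1, h1'⟩ | ⟨h1, h1'⟩ <;> rcases h with ⟨-, h⟩ | ⟨-, h⟩ <;>
      simp only [h1, h1'] at h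
    · exact Or.inr (Or.inr (Or.inr (Or.inl ⟨by linarith, h0'⟩)))
    · exact Or.inr (Or.inr (Or.inl ⟨by linarith, h0'⟩))
    · exact Or.inr (Or.inr (Or.inl ⟨by linarith, h0'⟩))
    · exact Or.inr (Or.inr (Or.inr (Or.inl ⟨by linarith, h0'⟩)))
  · refine Or.inr (Or.inr (Or.inr (Or.inr ⟨?_, h0⟩)))
    have hc := card_centralizer_tr_zero hq hlm hl hl4 hm3 h0
    rcases h with ⟨he, hi⟩ | ⟨he, hi⟩
    · have h1 : Fintype.card F + 1 = 2 * m := by omega
      show i = _
      rw [show i = Fintype.card F * (Fintype.card F + 1) / 2 from hi, h1]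
      exact Nat.div_eq_of_eq_mul_left two_pos (by ring)
    · have h1 : Fintype.card F - 1 = 2 * m := by omega
      show i = _
      rw [show i = Fintype.card F * (Fintype.card F - 1) / 2 from hi, h1]
      exact Nat.div_eq_of_eq_mul_left two_pos (by ring)

include hq hlm hl hl4 hm3 in
theorem range_index :
    Set.range (fun x : PS => (Subgroup.centralizer ({x} : Set PS)).index) =
      {1, 2 * ℓ * m, 2 * Fintype.card F * ℓ, 2 * Fintype.card F * m, Fintype.card F * m} := by
  have hodd := not_two_dvd hq hlm hl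
  have h2 := two_ne_zero_of_odd hodd
  ext n
  simp only [Set.mem_range, Set.mem_insert_iff, Set.mem_singleton_iff]
  constructor
  · rintro ⟨x, rfl⟩
    obtain ⟨g, rfl⟩ := QuotientGroup.mk'_surjective _ x
    rcases index_cases hq hlm hl hl4 hm3 g with h | ⟨h, -⟩ | ⟨h, -⟩ | ⟨h, -⟩ | ⟨h, -⟩
    · exact Or.inl h
    · exact Or.inr (Or.inl h)
    · exact Or.inr (Or.inr (Or.inl h))
    · exact Or.inr (Or.inr (Or.inr (Or.inl h)))
    · exact Or.inr (Or.inr (Or.inr (Or.inr h)))
  have hq7 : 7 ≤ Fintype.card F := by omega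
  have htorus : ∀ c d : ℕ, (c = ℓ ∧ d = m ∨ c = m ∧ d = ℓ) →
      ∃ x : PS, (Subgroup.centralizer ({x} : Set PS)).index = 2 * Fintype.card F * d := by
    intro c d hcd
    have he : 2 * c = Nat.card F - 1 ∨ 2 * c = Nat.card F + 1 := by
      rw [Nat.card_eq_fintype_card]
      rcases pm_cases hq hlm hl with h | h <;> omega
    obtain ⟨g, hg, ho, hc⟩ := exists_torus_generator he (by omega)
    refine ⟨proj₂ g, ?_⟩
    have h0 : tr g ≠ 0 := fun h0 => by
      have h4 : g ^ 4 = 1 := by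
        rw [show (4 : ℕ) = 2 * 2 from rfl, pow_mul, pow_two g, mul_self_of_tr_zero h0]; simp
      have := Nat.le_of_dvd (by norm_num) (orderOf_dvd_of_pow_eq_one h4)
      omega
    rcases class_size_cases g with ⟨-, h⟩ | ⟨-, h, -⟩ | ⟨-, -, h⟩ | ⟨h, -, -⟩
    · exfalso
      rcases (proj₂_eq_one_iff g).1 h with rfl | rfl
      · exact hg (by simp [tr]; ring)
      · exact hg (by simp [tr]; ring)
    · exact absurd h hg
    · rw [hc] at h
      rcases h with ⟨he', hi⟩ | ⟨he', hi⟩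
      · rw [hi, show Fintype.card F + 1 = 2 * d by omega]; ring
      · rw [hi, show Fintype.card F - 1 = 2 * d by omega]; ring
    · exact absurd h h0
  rintro (rfl | rfl | rfl | rfl | rfl)
  · exact ⟨1, by rw [Subgroup.index_eq_one, eq_top_iff]
                 intro x _
                 simp [Subgroup.mem_centralizer_singleton_iff]⟩
  · refine ⟨proj₂ (upS 1), ?_⟩
    have ht : tr (upS (1 : F)) = 2 := by simp [tr, CfsgLib.ClassicalLinear.upS_coe]; ring
    rcases index_cases hq hlm hl hl4 hm3 (upS (1 : F)) with h | ⟨h, -⟩ | ⟨h, -⟩ | ⟨h, -⟩ | ⟨-, h⟩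
    · exfalso
      have hmem : proj₂ (upS (1 : F)) ∈ Subgroup.center PS := by
        rw [Subgroup.mem_center_iff]
        intro y
        exact Subgroup.mem_centralizer_singleton_iff.1 (Subgroup.index_eq_one.1 h ▸ Subgroup.mem_top y)
      rcases class_size_cases (upS (1 : F)) with ⟨-, h'⟩ | ⟨h', -, -⟩ | ⟨h', -, -⟩ | ⟨h', -, -⟩
      · rcases (proj₂_eq_one_iff _).1 h' with e | e <;>
          have := congrArg (fun z : SL(2, F) => (z : Matrix (Fin 2) (Fin 2) F) 0 1) e <;>
          simp [CfsgLib.ClassicalLinear.upS_coe] at this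
      · rw [h, (odd_facts h2).1, one_mul] at h'
        have : 2 * Fintype.card F * 1 = Fintype.card F * (Fintype.card F - 1) * (Fintype.card F + 1) := by
          rw [mul_one]; exact h'
        have h3 : 6 * 8 ≤ (Fintype.card F - 1) * (Fintype.card F + 1) := Nat.mul_le_mul (by omega) (by omega)
        nlinarith
      · exact h' (by rw [ht]; norm_num)
      · exact h2 (ht ▸ h')
    · exact h
    · exfalso
      rcases class_size_cases (upS (1 : F)) with ⟨h', -⟩ | ⟨h', -, -⟩ | ⟨h', -, -⟩ | ⟨h', -, -⟩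
      · rw [h] at h'; nlinarith
      · rw [h, (odd_facts h2).1] at h'
        rcases pm_cases hq hlm hl with ⟨e1, e2⟩ | ⟨e1, e2⟩ <;> rw [e1, e2] at h' <;> nlinarith
      · exact h' (by rw [ht]; norm_num)
      · exact h2 (ht ▸ h')
    · exfalso
      rcases class_size_cases (upS (1 : F)) with ⟨h', -⟩ | ⟨h', -, -⟩ | ⟨h', -, -⟩ | ⟨h', -, -⟩
      · rw [h] at h'; nlinarith
      · rw [h, (odd_facts h2).1] at h'
        rcases pm_cases hq hlm hl with ⟨e1, e2⟩ | ⟨e1, e2⟩ <;> rw [e1, e2] at h' <;> nlinarith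
      · exact h' (by rw [ht]; norm_num)
      · exact h2 (ht ▸ h')
    · exact absurd (ht.symm.trans h) h2
  · exact htorus m ℓ (Or.inr ⟨rfl, rfl⟩)
  · exact htorus ℓ m (Or.inl ⟨rfl, rfl⟩)
  · refine ⟨proj₂ (companion 0), ?_⟩
    rcases index_cases hq hlm hl hl4 hm3 (companion (0 : F)) with h | ⟨-, h⟩ | ⟨-, h⟩ | ⟨-, h⟩ | ⟨h, -⟩
    · exfalso
      have hc := card_centralizer_tr_zero hq hlm hl hl4 hm3 (tr_companion (0 : F))
      rcases class_size_cases (companion (0 : F)) with ⟨-, h'⟩ | ⟨-, h', -⟩ | ⟨-, h', -⟩ | ⟨-, -, h'⟩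
      · rcases (proj₂_eq_one_iff _).1 h' with e | e <;>
          have := congrArg (fun z : SL(2, F) => (z : Matrix (Fin 2) (Fin 2) F) 1 0) e <;>
          simp [companion] at this
      · exact tr_sq_ne_of_tr_zero h2 (tr_companion (0 : F)) h'
      · exact (h'.resolve_right fun e => h2 e).1 (tr_companion 0)
      · rcases h' with ⟨he, hi⟩ | ⟨he, hi⟩ <;> rw [h] at hi
        · have h3 : 7 * 8 ≤ Fintype.card F * (Fintype.card F + 1) := Nat.mul_le_mul (by omega) (by omega)
          omega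
        · have h3 : 7 * 6 ≤ Fintype.card F * (Fintype.card F - 1) := Nat.mul_le_mul (by omega) (by omega)
          omega
    · exact absurd (tr_companion (0 : F)) h
    · exact absurd (tr_companion (0 : F)) h
    · exact absurd (tr_companion (0 : F)) h
    · exact h

include hq hlm hl hl4 hm3 in
/-- Elements with centraliser of order `2ℓ` are involutions. -/
theorem sq_eq_one_of_index {x : PS}
    (hi : (Subgroup.centralizer ({x} : Set PS)).index = Fintype.card F * m) : x ^ 2 = 1 := by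
  obtain ⟨g, rfl⟩ := QuotientGroup.mk'_surjective _ x
  have hpos : 0 < Fintype.card F := by omega
  have hl' := hl
  obtain ⟨c, hc⟩ := hl'
  rcases index_cases hq hlm hl hl4 hm3 g with h | ⟨h, -⟩ | ⟨h, -⟩ | ⟨h, -⟩ | ⟨-, h⟩
  · have : 7 * 3 ≤ Fintype.card F * m := Nat.mul_le_mul (by omega) hm3
    have h' := h.symm.trans hi
    omega
  · have h' := h.symm.trans hi
    have : 2 * ℓ = Fintype.card F := Nat.eq_of_mul_eq_mul_right (by omega) h'
    omega
  · have h' : Fintype.card F * (2 * ℓ) = Fintype.card F * m := by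
      rw [← hi, h]; ring
    have := Nat.eq_of_mul_eq_mul_left hpos h'
    omega
  · have h' : Fintype.card F * (2 * m) = Fintype.card F * m := by
      rw [← hi, h]; ring
    have := Nat.eq_of_mul_eq_mul_left hpos h'
    omega
  · rw [pow_two, ← map_mul, mul_self_of_tr_zero h]
    exact (proj₂_eq_one_iff _).2 (Or.inr rfl)

include hq hlm hl hl4 hm3 in
/-- The Sylow 2-subgroups are dihedral: generated by an involution and a cyclic subgroup it inverts. -/
theorem sylow_two_structure (R : Sylow 2 PS) :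
    ∃ s ∈ (R : Subgroup PS), ∃ k ∈ (R : Subgroup PS), s ≠ 1 ∧ s ^ 2 = 1 ∧ s * k ≠ 1 ∧ (s * k) ^ 2 = 1 ∧
      ∀ r ∈ (R : Subgroup PS), ∃ i : ℤ, r = k ^ i ∨ r = s * k ^ i := by
  haveI : Fact (Nat.Prime 2) := ⟨Nat.prime_two⟩
  have hl' := hl
  obtain ⟨c, hc⟩ := hl'
  have hpsl := card_psl_odd hq hlm hl
  have hodd_idx : ¬ 2 ∣ (R : Subgroup PS).index := R.not_dvd_index
  have hR := (R : Subgroup PS).card_mul_index
  haveI : Nontrivial (R : Subgroup PS) := by
    rw [← Finite.one_lt_card_iff_nontrivial]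
    by_contra hlt
    have h1 : Nat.card (R : Subgroup PS) = 1 := by
      have := Nat.card_pos (α := (R : Subgroup PS)); omega
    rw [h1, one_mul, hpsl] at hR
    exact hodd_idx ⟨_, hR⟩
  haveI := R.isPGroup'.center_nontrivial
  obtain ⟨⟨⟨z, hzR⟩, hzc⟩, hz1⟩ := exists_ne (1 : Subgroup.center (R : Subgroup PS))
  have hRC : (R : Subgroup PS) ≤ Subgroup.centralizer ({z} : Set PS) := fun r hr =>
    Subgroup.mem_centralizer_singleton_iff.2
      (congrArg Subtype.val (Subgroup.mem_center_iff.1 hzc ⟨r, hr⟩))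
  obtain ⟨g, rfl⟩ := QuotientGroup.mk'_surjective _ z
  have hg0 : tr g = 0 := by
    have hd := Subgroup.index_dvd_of_le hRC
    rcases index_cases hq hlm hl hl4 hm3 g with h | ⟨h, -⟩ | ⟨h, -⟩ | ⟨h, -⟩ | ⟨-, h⟩
    · exfalso
      refine hz1 (Subtype.ext (Subtype.ext ?_))
      haveI := CfsgLib.ClassicalLinear.isSimpleGroup_psl_fin (F := F) (le_refl 2)
        (fun _ => by rw [Nat.card_eq_fintype_card]; omega)
      rcases (inferInstance : (Subgroup.center PS).Normal).eq_bot_or_eq_top with e | e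
      · have hm : proj₂ g ∈ Subgroup.center PS := Subgroup.mem_center_iff.2 fun y =>
          Subgroup.mem_centralizer_singleton_iff.1 (Subgroup.index_eq_one.1 h ▸ Subgroup.mem_top y)
        rw [e, Subgroup.mem_bot] at hm
        exact hm
      · exfalso
        have hmem : Fintype.card F * m ∈
            Set.range (fun x : PS => (Subgroup.centralizer ({x} : Set PS)).index) := by
          rw [range_index hq hlm hl hl4 hm3]; simp
        obtain ⟨x, hx⟩ := hmem
        have hx' : (Subgroup.centralizer ({x} : Set PS)).index = 1 := by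
          rw [Subgroup.index_eq_one, eq_top_iff]
          intro y _
          exact Subgroup.mem_centralizer_singleton_iff.2
            (Subgroup.mem_center_iff.1 (e ▸ Subgroup.mem_top x) y)
        have h3 : 7 * 3 ≤ Fintype.card F * m := Nat.mul_le_mul (by omega) hm3
        simp only [hx'] at hx
        omega
    all_goals first
      | exact h
      | (exfalso; rw [h] at hd; exact hodd_idx (dvd_trans (dvd_mul_of_dvd_left (dvd_mul_right 2 _) _) hd))
  have h2 := two_ne_zero_of_odd (not_two_dvd hq hlm hl)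
  have ht4 := tr_sq_ne_of_tr_zero h2 hg0
  haveI := isCyclic_centralizer (F := F) ht4
  obtain ⟨⟨γ, hγm⟩, hγ⟩ := IsCyclic.exists_generator (α := Subgroup.centralizer ({g} : Set (SL(2, F))))
  have hcardC := card_centralizer_tr_zero hq hlm hl hl4 hm3 hg0
  have hγo : orderOf γ = 2 * ℓ := by
    rw [← hcardC, ← orderOf_eq_card_of_forall_mem_zpowers hγ, Subgroup.orderOf_mk]
  set K := Subgroup.zpowers (proj₂ γ) with hK
  have hkl : proj₂ γ ^ ℓ = 1 := by
    rw [← map_pow, proj₂_eq_one_iff]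
    refine Or.inr (eq_neg_one_of_sq_eq_one h2 ?_ ?_)
    · rw [← pow_mul, mul_comm, ← hγo, pow_orderOf_eq_one]
    · intro h
      have := Nat.le_of_dvd (by omega) (orderOf_dvd_of_pow_eq_one h)
      omega
  have hmemK : ∀ h : SL(2, F), h ∈ Subgroup.centralizer ({g} : Set (SL(2, F))) → proj₂ h ∈ K := fun h hh => by
    obtain ⟨i, hi⟩ := Subgroup.mem_zpowers_iff.1 (hγ ⟨h, hh⟩)
    have hi' : γ ^ i = h := by simpa using congrArg Subtype.val hi
    exact Subgroup.mem_zpowers_iff.2 ⟨i, by rw [← map_zpow, hi']⟩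
  have hflip : ∀ h : SL(2, F), proj₂ h ∈ (R : Subgroup PS) → proj₂ h ∉ K → h * g * h⁻¹ = -g := by
    intro h hh hK'
    have := Subgroup.mem_centralizer_singleton_iff.1 (hRC hh)
    rw [← mul_inv_eq_iff_eq_mul, ← proj₂_conj_eq, proj₂_eq_iff] at this
    exact this.resolve_left fun e => hK'
      (hmemK h (Subgroup.mem_centralizer_singleton_iff.2 (mul_inv_eq_iff_eq_mul.1 e)))
  have hsq : ∀ r ∈ (R : Subgroup PS), r ∉ K → r ^ 2 = 1 := by
    intro r hr hrK
    obtain ⟨h, rfl⟩ := QuotientGroup.mk'_surjective _ r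
    have hf := hflip h hr hrK
    have hh2 : h * h ∈ Subgroup.centralizer ({g} : Set (SL(2, F))) := by
      rw [Subgroup.mem_centralizer_singleton_iff, ← mul_inv_eq_iff_eq_mul]
      calc h * h * g * (h * h)⁻¹ = h * (h * g * h⁻¹) * h⁻¹ := by group
        _ = h * (-g) * h⁻¹ := by rw [hf]
        _ = -(h * g * h⁻¹) := by simp
        _ = g := by rw [hf, neg_neg]
    by_cases hc2 : h * h ∈ Subgroup.center (SL(2, F))
    · rw [pow_two, ← map_mul, proj₂_eq_one_iff]
      exact (mem_center_iff _).1 hc2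
    · exfalso
      refine hrK (hmemK h ?_)
      rw [← centralizer_eq_of_mem (notMem_center_of_tr ht4) hh2 hc2]
      exact Subgroup.mem_centralizer_singleton_iff.2 (mul_assoc h h h).symm
  have hnot : ¬ (R : Subgroup PS) ≤ K := fun hle => by
    have hd := Subgroup.card_dvd_of_le hle
    rw [hK, Nat.card_zpowers] at hd
    obtain ⟨d, hd⟩ := hd.trans (orderOf_dvd_of_pow_eq_one hkl)
    rw [hpsl, hd] at hR
    refine hodd_idx ⟨Fintype.card F * d * m, ?_⟩
    apply Nat.eq_of_mul_eq_mul_left (Nat.card_pos (α := (R : Subgroup PS)))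
    linarith
  obtain ⟨s, hs, hsK⟩ := SetLike.not_le_iff_exists.1 hnot
  haveI : IsCyclic K := Subgroup.isCyclic_zpowers _
  haveI : IsCyclic ((R : Subgroup PS) ⊓ K : Subgroup PS) :=
    Subgroup.isCyclic_of_le (inf_le_right : (R : Subgroup PS) ⊓ K ≤ K)
  obtain ⟨⟨k, hkR, hkK⟩, hk⟩ := IsCyclic.exists_generator (α := ((R : Subgroup PS) ⊓ K : Subgroup PS))
  have hskK : s * k ∉ K := fun h => hsK (by simpa using K.mul_mem h (K.inv_mem hkK))
  have hgenk : ∀ r ∈ (R : Subgroup PS), r ∈ K → ∃ i : ℤ, k ^ i = r := fun r hr hrK => by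
    obtain ⟨i, hi⟩ := Subgroup.mem_zpowers_iff.1 (hk ⟨r, hr, hrK⟩)
    exact ⟨i, by simpa using congrArg Subtype.val hi⟩
  refine ⟨s, hs, k, hkR, fun h => hsK (h ▸ K.one_mem), hsq s hs hsK, fun h => hskK (h ▸ K.one_mem),
    hsq _ (mul_mem hs hkR) hskK, fun r hr => ?_⟩
  by_cases hrK : r ∈ K
  · obtain ⟨i, hi⟩ := hgenk r hr hrK
    exact ⟨i, Or.inl hi.symm⟩
  · obtain ⟨a, rfl⟩ := QuotientGroup.mk'_surjective _ r
    obtain ⟨b, rfl⟩ := QuotientGroup.mk'_surjective _ s
    have hm' : proj₂ b * proj₂ a ∈ K := by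
      rw [← map_mul]
      refine hmemK _ (Subgroup.mem_centralizer_singleton_iff.2 (mul_inv_eq_iff_eq_mul.1 ?_))
      calc b * a * g * (b * a)⁻¹ = b * (a * g * a⁻¹) * b⁻¹ := by group
        _ = -(b * g * b⁻¹) := by rw [hflip a hr hrK]; simp
        _ = g := by rw [hflip b hs hsK, neg_neg]
    obtain ⟨i, hi⟩ := hgenk _ (mul_mem hs hr) hm'
    refine ⟨i, Or.inr ?_⟩
    rw [hi, ← mul_assoc, ← pow_two (proj₂ b), hsq _ hs hsK, one_mul]

end Odd

include F in
/-- The class sizes for even `q`. -/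
theorem range_index_even (heven : 2 ∣ Fintype.card F) (h2' : 2 < Fintype.card F) :
    Set.range (fun x : PS => (Subgroup.centralizer ({x} : Set PS)).index) =
      {1, (Fintype.card F - 1) * (Fintype.card F + 1), Fintype.card F * (Fintype.card F - 1),
        Fintype.card F * (Fintype.card F + 1)} := by
  have h2 : (2 : F) = 0 := by
    by_contra h
    exact (odd_facts h).2.2 heven
  set q := Fintype.card F with hq
  have hq4 : 4 ≤ q := by
    obtain ⟨c, hc⟩ := heven
    omega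
  have hZ := (char_two_facts h2).1
  ext n
  simp only [Set.mem_range, Set.mem_insert_iff, Set.mem_singleton_iff]
  constructor
  · rintro ⟨x, rfl⟩
    obtain ⟨g, rfl⟩ := QuotientGroup.mk'_surjective _ x
    rcases class_size_cases g with ⟨h, -⟩ | ⟨h, -, -⟩ | ⟨-, -, ⟨-, h⟩ | ⟨-, h⟩⟩ | ⟨-, h, -⟩
    · exact Or.inl h
    · refine Or.inr (Or.inl ?_)
      rw [hZ, one_mul] at h
      apply Nat.eq_of_mul_eq_mul_right (show 0 < q by omega)
      rw [h]; ring
    · exact Or.inr (Or.inr (Or.inr h))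
    · exact Or.inr (Or.inr (Or.inl h))
    · exact absurd h2 h
  have htorus : ∀ e : ℕ, e = q - 1 ∨ e = q + 1 → ∃ g : SL(2, F), tr g ^ 2 ≠ 4 ∧ proj₂ g ≠ 1 ∧
      Nat.card (Subgroup.centralizer ({g} : Set (SL(2, F)))) = e := by
    intro e he
    obtain ⟨g, hg, ho, hc⟩ := exists_torus_generator (F := F) (e := e)
      (by rw [Nat.card_eq_fintype_card]; exact he) (by omega)
    refine ⟨g, hg, fun h => ?_, hc⟩
    rcases (proj₂_eq_one_iff g).1 h with rfl | rfl
    · exact hg (by simp [tr]; ring)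
    · exact hg (by simp [tr]; ring)
  rintro (rfl | rfl | rfl | rfl)
  · exact ⟨1, by rw [Subgroup.index_eq_one, eq_top_iff]
                 intro x _
                 simp [Subgroup.mem_centralizer_singleton_iff]⟩
  · refine ⟨proj₂ (upS 1), ?_⟩
    have ht : tr (upS (1 : F)) = 2 := by simp [tr, CfsgLib.ClassicalLinear.upS_coe]; ring
    rcases class_size_cases (upS (1 : F)) with ⟨-, h'⟩ | ⟨h, -, -⟩ | ⟨h', -, -⟩ | ⟨-, h', -⟩
    · rcases (proj₂_eq_one_iff _).1 h' with e | e <;>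
        have := congrArg (fun z : SL(2, F) => (z : Matrix (Fin 2) (Fin 2) F) 0 1) e <;>
        simp [CfsgLib.ClassicalLinear.upS_coe] at this
    · rw [hZ, one_mul] at h
      apply Nat.eq_of_mul_eq_mul_right (show 0 < q by omega)
      rw [h]; ring
    · exact absurd (by rw [ht]; norm_num) h'
    · exact absurd h2 h'
  all_goals
    obtain ⟨gp, hgp, hgp1, hcp⟩ := htorus (q + 1) (Or.inr rfl)
    obtain ⟨gm, hgm, hgm1, hcm⟩ := htorus (q - 1) (Or.inl rfl)
  · refine ⟨proj₂ gp, ?_⟩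
    rcases class_size_cases gp with ⟨-, h⟩ | ⟨-, h, -⟩ | ⟨-, -, ⟨h, -⟩ | ⟨-, h⟩⟩ | ⟨-, h, -⟩
    · exact absurd h hgp1
    · exact absurd h hgp
    · omega
    · exact h
    · exact absurd h2 h
  · refine ⟨proj₂ gm, ?_⟩
    rcases class_size_cases gm with ⟨-, h⟩ | ⟨-, h, -⟩ | ⟨-, -, ⟨-, h⟩ | ⟨h, -⟩⟩ | ⟨-, h, -⟩
    · exact absurd h hgm1
    · exact absurd h hgm
    · exact h
    · omega
    · exact absurd h2 h

end CfsgLib.ClassSizesPSL
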