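import Cfsg.Prelude.Def_LieExceptional
import Cfsg.Agent.Lib.AltGroups.ZassenhausAbelian
import Cfsg.Agent.Lib.AltGroups.SharplyThreeTransitive

/-!
Recognition of `PGL₂` and `PSL₂` from an abelian subgroup `Q` of order `q` with `C(x) = Q` on `Q#`
and `q + 1` conjugates, in a group without small classes.
-/

set_option autoImplicit false
set_option linter.unusedSectionVars false
set_option linter.style.haveILetI false

open MulAction

namespace CfsgLib.ClassSizesPSL

variable {G : Type*} [Group G] [Finite G]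

/-- Three distinct points. -/
def tripleEmb {α : Type*} {a b c : α} (hab : a ≠ b) (hbc : b ≠ c) (hac : a ≠ c) : Fin 3 ↪ α :=
  ⟨![a, b, c], fun i j hij => by
    fin_cases i <;> fin_cases j <;> simp_all [Ne.symm hab, Ne.symm hbc, Ne.symm hac]⟩

/-- The two alternatives. -/
theorem recognition (Q : Subgroup G) {q m : ℕ} (hq : Nat.card Q = q)
    (hC : ∀ x ∈ Q, x ≠ 1 → Subgroup.centralizer ({x} : Set G) = Q)
    (hidx : (Subgroup.normalizer (Q : Set G)).index = q + 1)
    (hcN : Nat.card (Subgroup.normalizer (Q : Set G)) = q * m)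
    (hm2 : 2 ≤ m) (hco' : q.Coprime m) (hq2 : 2 ≤ q)
    (hcls : ∀ y : G, y ≠ 1 → q < (Subgroup.centralizer ({y} : Set G)).index) :
    (2 * m + 1 = q → ∃ (K : Type) (_ : Field K) (_ : Fintype K), Fintype.card K = q ∧
        Nonempty (G ≃* Matrix.ProjectiveSpecialLinearGroup (Fin 2) K)) ∧
    (m + 1 = q → 2 ∣ q → ∃ (K : Type) (_ : Field K) (_ : Fintype K), Fintype.card K = q ∧
        Nonempty (G ≃* Matrix.ProjGenLinGroup (Fin 2) K)) := by
  classical
  subst hq
  set q := Nat.card ↥Q with hq
  set N := Subgroup.normalizer (Q : Set G) with hNdef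
  have hQN : Q ≤ N := Subgroup.le_normalizer
  -- elements of `Q` are the elements of `N` whose order divides `q`
  have hQmem : ∀ y ∈ N, orderOf y ∣ q → y ∈ Q := by
    intro y hy hd
    have hrel : (Q.subgroupOf N).index = m := by
      have := (Q.subgroupOf N).card_mul_index
      rw [Nat.card_congr (Subgroup.subgroupOfEquivOfLe hQN).toEquiv, hcN] at this
      exact Nat.eq_of_mul_eq_mul_left (by omega) this
    have hp : (⟨y, hy⟩ : N) ^ m ∈ Q.subgroupOf N := hrel ▸ Subgroup.pow_index_mem _ _
    have hco : Nat.Coprime m (orderOf y) := Nat.Coprime.coprime_dvd_right hd hco'.symm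
    obtain ⟨i, hi⟩ := exists_pow_eq_self_of_coprime (x := y) hco
    rw [← hi]
    exact Q.pow_mem hp i
  haveI : Fintype (G ⧸ N) := Fintype.ofFinite _
  set x0 : G ⧸ N := QuotientGroup.mk 1 with hx0
  have hstab : stabilizer G x0 = N := by rw [hx0]; exact MulAction.stabilizer_quotient N
  have hcardΩ : Fintype.card (G ⧸ N) = q + 1 := by
    rw [← Nat.card_eq_fintype_card]; exact hidx
  have hQfix : ∀ u ∈ Q, u • x0 = x0 := fun u hu => by
    rw [← mem_stabilizer_iff, hstab]; exact hQN hu
  -- semiregularity of `Q` on the other points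
  have hsemi : ∀ u ∈ Q, ∀ y : G ⧸ N, y ≠ x0 → u • y = y → u = 1 := by
    intro u hu y hy hfix
    by_contra hu1
    induction y using QuotientGroup.induction_on with
    | H g =>
      have hgN : g⁻¹ * u * g ∈ N := by
        have := QuotientGroup.eq.1 hfix.symm
        simpa [mul_assoc] using this
      have hd : orderOf (g⁻¹ * u * g) ∣ q := by
        have e : orderOf (g⁻¹ * u * g) = orderOf u := by
          rw [← MulEquiv.orderOf_eq (MulAut.conj g⁻¹) u]
          simp
        rw [e]
        exact Subgroup.orderOf_dvd_natCard Q hu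
      have hv := hQmem _ hgN hd
      have hv1 : g⁻¹ * u * g ≠ 1 := fun h => hu1 (by
        have := congrArg (fun z => g * z * g⁻¹) h
        simpa [mul_assoc] using this)
      refine hy (QuotientGroup.eq.2 ?_)
      rw [mul_one]
      refine N.inv_mem ?_
      rw [hNdef, Subgroup.mem_normalizer_iff]
      intro z
      have key : ∀ w, w ∈ Q ↔ w * u = u * w := fun w => by
        conv_lhs => rw [← hC u hu hu1]
        rw [Subgroup.mem_centralizer_singleton_iff]
      have key' : ∀ w, w ∈ Q ↔ w * (g⁻¹ * u * g) = g⁻¹ * u * g * w := fun w => by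
        conv_lhs => rw [← hC _ hv hv1]
        rw [Subgroup.mem_centralizer_singleton_iff]
      rw [key', key]
      constructor <;> intro h
      · have := congrArg (fun w => g * w * g⁻¹) h
        simpa [mul_assoc] using this
      · have := congrArg (fun w => g⁻¹ * w * g) h
        simpa [mul_assoc] using this
  have hQne : ∀ u ∈ Q, ∀ y : G ⧸ N, y ≠ x0 → u • y ≠ x0 := by
    intro u hu y hy h
    exact hy (MulAction.injective u (h.trans (hQfix u hu).symm))
  -- `Q` is regular on the other points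
  have hreg : ∀ y z : G ⧸ N, y ≠ x0 → z ≠ x0 → ∃! u : Q, (u : G) • y = z := by
    intro y z hy hz
    let f : Q → {w : G ⧸ N // w ≠ x0} := fun u => ⟨(u : G) • y, hQne u u.2 y hy⟩
    have hinj : Function.Injective f := by
      intro a b hab
      have h' : (a : G) • y = (b : G) • y := congrArg Subtype.val hab
      have := hsemi ((b : G)⁻¹ * a) (Q.mul_mem (Q.inv_mem b.2) a.2) y hy (by
        rw [mul_smul, h', inv_smul_smul])
      exact Subtype.ext (inv_mul_eq_one.1 this).symm
    haveI := Fintype.ofFinite Q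
    have hbij : Function.Bijective f := by
      refine (Fintype.bijective_iff_injective_and_card f).2 ⟨hinj, ?_⟩
      rw [Fintype.card_subtype_compl, Fintype.card_subtype_eq, hcardΩ, hq,
        Nat.card_eq_fintype_card]
      omega
    obtain ⟨u, hu⟩ := hbij.2 ⟨z, hz⟩
    exact ⟨u, congrArg Subtype.val hu, fun v hv => hinj (by rw [hu]; exact Subtype.ext hv)⟩
  have hN_fix : ∀ g ∈ N, ∀ y1 y2 : G ⧸ N, y1 ≠ x0 → y2 ≠ x0 → y1 ≠ y2 →
      g • y1 = y1 → g • y2 = y2 → g = 1 := by
    intro g hg y1 y2 h1 h2 h12 f1 f2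
    obtain ⟨u, hu, -⟩ := hreg y1 y2 h1 h2
    have hu1 : (u : G) ≠ 1 := fun h => h12 (by rw [← hu, h, one_smul])
    have hgug : g * u * g⁻¹ ∈ Q := (Subgroup.mem_normalizer_iff.1 hg u).1 u.2
    have e : (g * u * g⁻¹) • y1 = y2 := by
      rw [mul_smul, mul_smul, inv_smul_eq_iff.2 f1.symm, hu, f2]
    have heq : g * u * g⁻¹ = u := congrArg Subtype.val
      ((hreg y1 y2 h1 h2).unique (y₁ := ⟨_, hgug⟩) (y₂ := u) e hu)
    have hgQ : g ∈ Q := by
      rw [← hC u u.2 hu1, Subgroup.mem_centralizer_singleton_iff]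
      exact mul_inv_eq_iff_eq_mul.1 heq
    exact hsemi g hgQ y1 h1 f1
  obtain ⟨y0, hy0⟩ : ∃ y : G ⧸ N, y ≠ x0 :=
    Fintype.exists_ne_of_one_lt_card (by omega) x0
  -- two-transitivity
  haveI hpre : IsPretransitive G (G ⧸ N) := inferInstance
  have h2t : IsMultiplyPretransitive G (G ⧸ N) 2 := by
    rw [is_two_pretransitive_iff]
    have hto : ∀ a b : G ⧸ N, a ≠ b → ∃ g : G, g • a = x0 ∧ g • b = y0 := by
      intro a b hab
      obtain ⟨g, hg⟩ := exists_smul_eq G a x0
      obtain ⟨u, hu, -⟩ := hreg (g • b) y0 (fun h => hab (MulAction.injective g (hg.trans h.symm)))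
        hy0
      exact ⟨u * g, by rw [mul_smul, hg, hQfix u u.2], by rw [mul_smul, hu]⟩
    intro a b c d hab hcd
    obtain ⟨g, hga, hgb⟩ := hto a b hab
    obtain ⟨g', hgc, hgd⟩ := hto c d hcd
    exact ⟨g'⁻¹ * g, by rw [mul_smul, hga, inv_smul_eq_iff, hgc],
      by rw [mul_smul, hgb, inv_smul_eq_iff, hgd]⟩
  -- three fixed points
  have h3 : ∀ g : G, ∀ a b c : G ⧸ N, a ≠ b → b ≠ c → a ≠ c →
      g • a = a → g • b = b → g • c = c → g = 1 := by
    intro g a b c hab hbc hac fa fb fc
    obtain ⟨k, hk⟩ := exists_smul_eq G a x0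
    have hconj : ∀ y : G ⧸ N, g • y = y → (k * g * k⁻¹) • (k • y) = k • y := fun y hy => by
      rw [mul_smul, inv_smul_smul, mul_smul, hy]
    have := hN_fix (k * g * k⁻¹) (by rw [← hstab, mem_stabilizer_iff, ← hk]; exact hconj a fa)
      (k • b) (k • c) (fun h => hab (MulAction.injective k (hk.trans h.symm)))
      (fun h => hac (MulAction.injective k (hk.trans h.symm)))
      (fun h => hbc (MulAction.injective k h)) (hconj b fb) (hconj c fc)
    exact conj_eq_one_iff.1 this
  -- the two-point stabiliser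
  have hH : Nat.card ↥(stabilizer G x0 ⊓ stabilizer G y0) = m := by
    rw [hstab]
    have horb : orbit N y0 = {w | w ≠ x0} := by
      ext w
      constructor
      · rintro ⟨n, rfl⟩ h
        exact hy0 (MulAction.injective (n : G)
          (show (n : G) • y0 = (n : G) • x0 by
            rw [show (n : G) • x0 = x0 from mem_stabilizer_iff.1 (hstab.symm ▸ n.2)]; exact h))
      · intro hw
        obtain ⟨u, hu, -⟩ := hreg y0 w hy0 hw
        exact ⟨⟨u, hQN u.2⟩, hu⟩
    have h1 : (stabilizer N y0).index = q := by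
      rw [index_stabilizer, horb, ← Nat.card_coe_set_eq]
      show Nat.card {w : G ⧸ N // w ≠ x0} = q
      rw [Nat.card_eq_fintype_card, Fintype.card_subtype_compl, Fintype.card_subtype_eq, hcardΩ]
      omega
    have h2 := (stabilizer N y0).card_mul_index
    rw [h1, hcN, mul_comm] at h2
    have h3' : Nat.card ↥(stabilizer N y0) = m := Nat.eq_of_mul_eq_mul_left (by omega) h2
    rw [← h3']
    refine Nat.card_congr ?_
    exact
      { toFun := fun g => ⟨⟨g, g.2.1⟩, g.2.2⟩
        invFun := fun g => ⟨g.1, g.1.2, g.2⟩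
        left_inv := fun _ => rfl
        right_inv := fun _ => rfl }
  have hfaith : FaithfulSMul G (G ⧸ N) := by
    refine ⟨fun {g h} hgh => ?_⟩
    set L := (MulAction.toPermHom G (G ⧸ N)).ker with hL
    have hker : g⁻¹ * h ∈ L := by
      rw [hL, MonoidHom.mem_ker]
      ext y
      show (g⁻¹ * h) • y = y
      rw [mul_smul, ← hgh y, inv_smul_smul]
    have hLfix : ∀ k ∈ L, ∀ y : G ⧸ N, k • y = y := fun k hk y =>
      Equiv.congr_fun (MonoidHom.mem_ker.1 hk) y
    have hLQ : ∀ k ∈ L, k ∈ Q → k = 1 := fun k hk hkQ => hsemi k hkQ y0 hy0 (hLfix k hk y0)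
    have hbot : g⁻¹ * h = 1 := by
      by_contra hne
      have hkN : g⁻¹ * h ∈ N := by rw [← hstab, mem_stabilizer_iff]; exact hLfix _ hker x0
      haveI : Nontrivial Q := Finite.one_lt_card_iff_nontrivial.1 (by omega)
      obtain ⟨⟨u, hu⟩, hu1⟩ := exists_ne (1 : Q)
      have hu1' : u ≠ 1 := fun e => hu1 (Subtype.ext e)
      have h1 : (g⁻¹ * h) * u * (g⁻¹ * h)⁻¹ * u⁻¹ ∈ L := by
        have := L.mul_mem hker ((inferInstance : L.Normal).conj_mem _ (L.inv_mem hker) u)
        simpa [mul_assoc] using this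
      have h2 : (g⁻¹ * h) * u * (g⁻¹ * h)⁻¹ * u⁻¹ ∈ Q :=
        Q.mul_mem ((Subgroup.mem_normalizer_iff.1 hkN u).1 hu) (Q.inv_mem hu)
      have h3 : (g⁻¹ * h) ∈ Q := by
        rw [← hC u hu hu1', Subgroup.mem_centralizer_singleton_iff]
        exact mul_inv_eq_iff_eq_mul.1 (mul_inv_eq_one.1 (hLQ _ h1 h2))
      exact hne (hLQ _ hker h3)
    exact inv_mul_eq_one.1 hbot
  have hne : ∃ g : G, g ≠ 1 ∧ ∃ a b : G ⧸ N, a ≠ b ∧ g • a = a ∧ g • b = b := by
    have : 1 < Nat.card ↥(stabilizer G x0 ⊓ stabilizer G y0) := by omega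
    obtain ⟨g, hg⟩ := (Subgroup.ne_bot_iff_exists_ne_one).1 ((Subgroup.one_lt_card_iff_ne_bot _).1 this)
    exact ⟨g, fun e => hg (Subtype.ext e), x0, y0, hy0.symm, g.2.1, g.2.2⟩
  have hZ : Cfsg.IsZassenhausGroup G (G ⧸ N) := by
    refine ⟨hfaith, h2t, h3, hne, fun M hM hMt => ?_⟩
    by_contra hreg'
    push Not at hreg'
    have hMc : Nat.card M = q + 1 := by
      have hbij : Function.Bijective (fun k : M => k • x0) := by
        refine ⟨fun k l h => ?_, fun y => hMt.exists_smul_eq x0 y⟩
        have hmem : l⁻¹ * k ∈ stabilizer M x0 := by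
          rw [mem_stabilizer_iff, mul_smul]
          exact inv_smul_eq_iff.2 h
        exact (inv_mul_eq_one.1 (Subgroup.mem_bot.1 (SetLike.ext_iff.1 (hreg' x0) _ |>.1 hmem))).symm
      rw [Nat.card_congr (Equiv.ofBijective _ hbij), Nat.card_eq_fintype_card, hcardΩ]
    haveI : Nontrivial M := Finite.one_lt_card_iff_nontrivial.1 (by omega)
    obtain ⟨⟨y, hy⟩, hy1⟩ := exists_ne (1 : M)
    have hy1' : y ≠ 1 := fun e => hy1 (Subtype.ext e)
    have hbig := hcls y hy1'
    let f : Option (G ⧸ Subgroup.centralizer ({y} : Set G)) → M := fun o =>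
      o.elim 1 (fun c => ⟨c.out * y * c.out⁻¹, hM.conj_mem y hy c.out⟩)
    have hf : Function.Injective f := by
      rintro (_ | c) (_ | d) h
      · rfl
      · exact absurd (conj_eq_one_iff.1 (congrArg Subtype.val h).symm) hy1'
      · exact absurd (conj_eq_one_iff.1 (congrArg Subtype.val h)) hy1'
      · have h' : c.out * y * c.out⁻¹ = d.out * y * d.out⁻¹ := congrArg Subtype.val h
        rw [← QuotientGroup.out_eq' c, ← QuotientGroup.out_eq' d]
        refine congrArg some (QuotientGroup.eq.2 ?_)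
        rw [Subgroup.mem_centralizer_singleton_iff, ← mul_inv_eq_iff_eq_mul]
        calc c.out⁻¹ * d.out * y * (c.out⁻¹ * d.out)⁻¹ = c.out⁻¹ * (d.out * y * d.out⁻¹) * c.out := by
              group
          _ = y := by rw [← h']; group
    have h1 := Nat.card_le_card_of_injective f hf
    rw [Finite.card_option, hMc, ← Subgroup.index_eq_card] at h1
    omega
  have hQab : IsMulCommutative Q := ⟨⟨fun a b => by
    by_cases ha : (a : G) = 1
    · apply Subtype.ext; simp [ha]
    · have : (b : G) ∈ Subgroup.centralizer ({(a : G)} : Set G) := by rw [hC a a.2 ha]; exact b.2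
      exact Subtype.ext (Subgroup.mem_centralizer_singleton_iff.1 this).symm⟩⟩
  constructor
  · intro hmq
    rcases CfsgLib.AltGroups.zassenhaus_abelian_kernel hZ (x := x0) (o := y0) hy0 Q
      (by rw [hstab]; exact hQN) (by rw [hstab]; exact Subgroup.normal_in_normalizer) hQab hreg with
      h | ⟨-, K, _, _, -, hKc, he⟩
    · rw [hH, hcardΩ] at h; omega
    · exact ⟨K, inferInstance, inferInstance, by omega, he⟩
  · intro hmq h2q
    obtain ⟨h3t, hfix⟩ := CfsgLib.AltGroups.sharply_three_transitive_of_card hZ hy0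
      (by rw [hH, hcardΩ]; omega)
    obtain ⟨K, _, _, hKc, he⟩ := CfsgLib.AltGroups.sharply_three_transitive_odd_degree (G := G)
      (Ω := G ⧸ N) (fun a b c a' b' c' hab hbc hac hab' hbc' hac' => by
        haveI := h3t
        let t : Fin 3 ↪ G ⧸ N := tripleEmb hab hbc hac
        let t' : Fin 3 ↪ G ⧸ N := tripleEmb hab' hbc' hac'
        obtain ⟨g, hg⟩ := exists_smul_eq G t t'
        have hg' := fun i => DFunLike.congr_fun hg i
        refine ⟨g, ⟨hg' 0, hg' 1, hg' 2⟩, fun k hk => ?_⟩
        obtain ⟨hka, hkb, hkc⟩ := hk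
        have hmem : g⁻¹ * k ∈ stabilizer G t := by
          rw [mem_stabilizer_iff]
          ext i
          show (g⁻¹ * k) • t i = t i
          rw [mul_smul, inv_smul_eq_iff]
          fin_cases i
          · exact hka.trans (hg' 0).symm
          · exact hkb.trans (hg' 1).symm
          · exact hkc.trans (hg' 2).symm
        rw [hfix, Subgroup.mem_bot] at hmem
        exact (inv_mul_eq_one.1 hmem).symm)
      (by rw [hcardΩ]; exact (even_iff_two_dvd.2 h2q).add_one) (by rw [hcardΩ]; omega)
    exact ⟨K, inferInstance, inferInstance, by omega, he⟩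

end CfsgLib.ClassSizesPSL
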